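import Groth.Agent.BlowRegLib.Surface
import Groth.Agent.BlowRegLib.PosC
import Groth.Agent.BlowRegLib.Trivial
import Groth.Agent.BlowRegLib.NegCurve
import Groth.Agent.BlowRegLib.LinearGG
import Groth.Agent.SurfAmpleLib.Adj
import Groth.Agent.PlaneCurveLib.Degree
import Groth.Agent.GenusZeroLib.PSmooth
import Groth.Agent.S10829

/-! Riemann–Roch on blown-up planes. -/

set_option autoImplicit false
set_option linter.style.haveILetI false
set_option linter.unusedSectionVars false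
set_option backward.isDefEq.respectTransparency false
set_option backward.isDefEq.respectTransparency.types false
set_option maxHeartbeats 1000000
universe u

open CategoryTheory CategoryTheory.Limits AlgebraicGeometry TopologicalSpace
open KFlatLib (pb)

noncomputable section

namespace PlaneRRLib

variable {k : Type u} [Field k] [IsAlgClosed k] {r : ℕ} {P : Fin r → ↥(CohB1.ProjSpace 2 k)}

theorem pointCharts (hP : Function.Injective P)
    (hPc : ∀ i, IsClosed ({P i} : Set ↥(CohB1.ProjSpace 2 k))) (hZ : IsClosed (Set.range P)) :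
    BlowRegLib.PointCharts (Scheme.IdealSheafData.vanishingIdeal ⟨Set.range P, hZ⟩) := by
  letI : (CohB1.ProjSpace 2 k).Over (Spec (CommRingCat.of k)) := ⟨CohB1.ProjSpace.toSpec 2 k⟩
  haveI : Smooth (CohB1.ProjSpace 2 k ↘ Spec (CommRingCat.of k)) := GenusZeroLib.smooth_toSpec 2 k
  haveI : IsIntegral (CohB1.ProjSpace 2 k) := PicPnLib.isIntegral_projSpace 2 k
  haveI : IsLocallyNoetherian (CohB1.ProjSpace 2 k) :=
    LocallyOfFiniteType.isLocallyNoetherian (CohB1.ProjSpace 2 k ↘ Spec (CommRingCat.of k))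
  haveI := SurfNumLib.smoothRel_of_dim (k := k) (Groth.Agent.S10829.result k 2)
  intro y hy
  rw [Scheme.IdealSheafData.coe_support_vanishingIdeal] at hy
  obtain ⟨i, rfl⟩ := hy
  haveI : IsRegularLocalRing ((CohB1.ProjSpace 2 k).presheaf.stalk (P i)) :=
    WeilExtLib.isRegular_stalk_smooth (CohB1.ProjSpace 2 k ↘ Spec (CommRingCat.of k)) _
  obtain ⟨W, hW, f, hf, hI, -⟩ := BlowRegLib.exists_isolated_chart P hP hPc hZ i
    (CIGen.closedPt_of_smooth (CohB1.ProjSpace 2 k ↘ Spec (CommRingCat.of k)) 2 (P i) (hPc i)).2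
  exact ⟨W, f, hW, hf, hI⟩

variable {X : Scheme.{u}} [X.Over (Spec (CommRingCat.of k))] {σ : X ⟶ CohB1.ProjSpace 2 k}
  [IsIntegral X] [IsProper (X ↘ Spec (CommRingCat.of k))]

/-- Euler characteristics of the pulled back twisting sheaves. -/
theorem euler_pullback_twist (hP : Function.Injective P)
    (hPc : ∀ i, IsClosed ({P i} : Set ↥(CohB1.ProjSpace 2 k))) (hZ : IsClosed (Set.range P))
    (hσk : σ ≫ CohB1.ProjSpace.toSpec 2 k = X ↘ (Spec (CommRingCat.of k)))
    (hσ : BlowUp.IsBlowUp σ (Scheme.IdealSheafData.vanishingIdeal ⟨Set.range P, hZ⟩)) (n : ℤ) :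
    Curv2.euler k X (pb σ (Twist.twistProjSpace 2 k n)) = Ring.choose (n + 2) 2 := by
  letI : (CohB1.ProjSpace 2 k).Over (Spec (CommRingCat.of k)) := ⟨CohB1.ProjSpace.toSpec 2 k⟩
  haveI := StratLib.isProper_toSpec 2 k
  haveI : IsLocallyNoetherian (CohB1.ProjSpace 2 k) :=
    LocallyOfFiniteType.isLocallyNoetherian (CohB1.ProjSpace.toSpec 2 k)
  haveI := BlowRegLib.isProper_b hσ
  have hreg := (pointCharts hP hPc hZ).locReg
  have hE := AmpleDevLib.isFinLocFree_of_isInvertible (PicPnLib.twist_inv 2 k n)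
  rw [BlowRegLib.euler_pullback_eq σ hσk _ (BlowRegLib.isIso_unit hσ hreg hE) (BlowRegLib.isZero_pullback hσ hreg hE)]
  exact PlaneCurveLib.euler_twist_plane rfl n

variable [Smooth (X ↘ Spec (CommRingCat.of k))]

/-- Euler characteristic of the structure sheaf, `H · H` and `H · K` on a blown-up plane. -/
theorem numbers (hP : Function.Injective P)
    (hPc : ∀ i, IsClosed ({P i} : Set ↥(CohB1.ProjSpace 2 k))) (hZ : IsClosed (Set.range P))
    (hσk : σ ≫ CohB1.ProjSpace.toSpec 2 k = X ↘ (Spec (CommRingCat.of k)))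
    (hσ : BlowUp.IsBlowUp σ (Scheme.IdealSheafData.vanishingIdeal ⟨Set.range P, hZ⟩))
    (hX : topologicalKrullDim X = ((2 : ℕ) : WithBot ℕ∞))
    {W : X.Modules} (hW : ExtPow.IsExtPow 2 (Omega.sheaf (X ↘ (Spec (CommRingCat.of k)))) W) :
    Curv2.euler k X (Coh.structureModule X) = 1 ∧
      HodgeIdxLib.pr k (pb σ (Twist.twistProjSpace 2 k 1)) (pb σ (Twist.twistProjSpace 2 k 1)) = 1 ∧
      HodgeIdxLib.pr k (pb σ (Twist.twistProjSpace 2 k 1)) W = -3 := by
  have hc : ∀ m : ℕ, Ring.choose ((m : ℤ) + 2) 2 = (((m + 2).choose 2 : ℕ) : ℤ) := fun m => by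
    rw [← Ring.choose_natCast]
    norm_num
  obtain ⟨z⟩ := PicPnLib.twist_zero 2 k
  obtain ⟨e⟩ := PicPnLib.twist_add 2 k 1 1
  obtain ⟨t⟩ := BlowPtLib.nonempty_pb_tensor σ (Twist.twistProjSpace 2 k 1) (Twist.twistProjSpace 2 k 1)
  have h0 : Curv2.euler k X (Coh.structureModule X) = 1 := by
    rw [← CurvLib.euler_congr (k := k) ((Scheme.Modules.pullback σ).mapIso z ≪≫ KFlatLib.pullUnitIso σ),
      euler_pullback_twist hP hPc hZ hσk hσ]
    exact hc 0
  have h1 : Curv2.euler k X (pb σ (Twist.twistProjSpace 2 k 1)) = 3 := by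
    rw [euler_pullback_twist hP hPc hZ hσk hσ]; exact hc 1
  have hHH : HodgeIdxLib.pr k (pb σ (Twist.twistProjSpace 2 k 1)) (pb σ (Twist.twistProjSpace 2 k 1)) = 1 := by
    rw [BlowRegLib.pr_formula, h0, h1, ← CurvLib.euler_congr (k := k) t,
      CurvLib.euler_congr (k := k) ((Scheme.Modules.pullback σ).mapIso e), euler_pullback_twist hP hPc hZ hσk hσ,
      show (1 : ℤ) + 1 + 2 = ((2 : ℕ) : ℤ) + 2 by norm_num, hc 2]
    decide
  refine ⟨h0, hHH, ?_⟩
  have hR := SurfAmpleLib.riemann_roch hX hW (AmpleDevLib.isInvertible_pb σ (PicPnLib.twist_inv 2 k 1))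
  rw [h0, h1, hHH] at hR
  omega

theorem pr_dual_left (hX : topologicalKrullDim X ≤ (2 : ℕ)) {L W H : X.Modules} (hL : PicF.IsInvertible L)
    (hW : PicF.IsInvertible W) (hH : PicF.IsInvertible H) :
    HodgeIdxLib.pr k (CohB1.tensorMod (MiscFlat6.dual L) W) H = HodgeIdxLib.pr k W H - HodgeIdxLib.pr k L H := by
  haveI := CurvLib.isNoetherian k (X := X)
  obtain ⟨e⟩ := MiscFlat6.nonempty_dualIso hL
  rw [HodgeIdxLib.pr_tensor hX (MiscFlat6.dual_isInvertible hL) hW hH,
    HodgeIdxLib.pr_inverse (k := k) hX hL (MiscFlat6.dual_isInvertible hL) hH e]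
  ring

theorem subsingleton_h2 (hP : Function.Injective P)
    (hPc : ∀ i, IsClosed ({P i} : Set ↥(CohB1.ProjSpace 2 k))) (hZ : IsClosed (Set.range P))
    (hσk : σ ≫ CohB1.ProjSpace.toSpec 2 k = X ↘ (Spec (CommRingCat.of k)))
    (hσ : BlowUp.IsBlowUp σ (Scheme.IdealSheafData.vanishingIdeal ⟨Set.range P, hZ⟩))
    (hX : topologicalKrullDim X = ((2 : ℕ) : WithBot ℕ∞))
    {W : X.Modules} (hW : ExtPow.IsExtPow 2 (Omega.sheaf (X ↘ (Spec (CommRingCat.of k)))) W)
    {L : X.Modules} (hL : PicF.IsInvertible L)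
    (hLH : -3 < HodgeIdxLib.pr k L (pb σ (Twist.twistProjSpace 2 k 1))) :
    Subsingleton (Coh.HH X L 2) := by
  haveI := CurvLib.isNoetherian k (X := X)
  obtain ⟨-, -, hHW⟩ := numbers hP hPc hZ hσk hσ hX hW
  have hH := AmpleDevLib.isInvertible_pb σ (PicPnLib.twist_inv 2 k 1)
  have hWi := SurfAmpleLib.isInvertible_canonical hX hW
  have hM := HilbPolyLib.isInvertible_tensor (MiscFlat6.dual_isInvertible hL) hWi
  obtain ⟨e⟩ := MiscFlat6.nonempty_dualIso hL
  have hneg : HodgeIdxLib.pr k (CohB1.tensorMod (MiscFlat6.dual L) W) (pb σ (Twist.twistProjSpace 2 k 1)) < 0 := by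
    rw [pr_dual_left hX.le hL hWi hH, HodgeIdxLib.pr_comm W, hHW]
    omega
  haveI := BlowRegLib.subsingleton_h0_of_neg (k := k) hX hM hH
    (BlowRegLib.gg_pullback σ (BlowRegLib.gg_twist_one (k := k) 2)) hneg
  have h := SurfAmpleLib.hh_dual hX hW hL e 2 le_rfl
  simp only [HodgeIdxLib.hh, Nat.sub_self] at h
  haveI := CurvLib.finite_HH (k := k) (CurvLib.isCoh_of_isInvertible hL) 2
  exact Module.finrank_zero_iff.1 (h.trans (Module.finrank_zero_of_subsingleton
    (M := Coh.HH X (CohB1.tensorMod (MiscFlat6.dual L) W) 0)))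

end PlaneRRLib

namespace PlaneRRLib

open HilbPolyLib (swapIso unitLeft)

variable {k : Type u} [Field k] [IsAlgClosed k] {X : Scheme.{u}} [X.Over (Spec (CommRingCat.of k))]
  [IsIntegral X] [IsProper (X ↘ Spec (CommRingCat.of k))]

/-- A curve of very negative degree forces `H¹`. -/
theorem h1_ge (hX : topologicalKrullDim X = ((2 : ℕ) : WithBot ℕ∞)) {L : X.Modules} (hL : PicF.IsInvertible L)
    (E : X.IdealSheafData) (hE : BlowUp.IsEffCartierIdeal E) (hEi : IsIntegral E.subscheme)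
    (hE1 : topologicalKrullDim (E.support : Set X) = 1)
    (h2 : Subsingleton (Coh.HH X (CohB1.tensorMod L (ClSub.idealMod E)) 2)) :
    -(Curv2.euler k X (CohB1.tensorMod (ClSub.quotMod E) L) - Curv2.euler k X (ClSub.quotMod E)) - 1 ≤
      (Module.finrank k (Coh.HH X L 1) : ℤ) := by
  haveI := CurvLib.isNoetherian k (X := X)
  haveI := hEi
  have hQ := CurvLib.isCoh_quotMod E
  have hd : topologicalKrullDim (CohB1.support (ClSub.quotMod E)) ≤ (1 : ℕ) :=
    (IntFunLib.dim_mono (CurvLib.support_quotMod_subset E)).trans hE1.le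
  have hq : HodgeIdxLib.hh k (CohB1.tensorMod (Coh.structureModule X) (ClSub.quotMod E)) 0 ≤ 1 := by
    refine (SurfAmpleLib.h0_quot_bound (k := k) CurvLib.isInvertible_structureModule E hE1 ?_).1
    simp only [IntFunLib.N]
    rw [BlowRegLib.N_quot_eq (k := k) E (IntMultLib.isInvertible_idealMod E hE) CurvLib.isInvertible_structureModule,
      HodgeIdxLib.pr_unit]
    simp
  rw [HodgeIdxLib.hh_congr (k := k) (unitLeft (ClSub.quotMod E))] at hq
  have hχ : Curv2.euler k X (ClSub.quotMod E) ≤ 1 := by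
    rw [HodgeIdxLib.euler_eq_of_dim_one (k := k) hQ hd]
    omega
  have hS := HilbPolyLib.shortExact_tensor hL (CurvLib.idealSeq_shortExact E)
  have h : HodgeIdxLib.hh k (CohB1.tensorMod L (ClSub.quotMod E)) 1 ≤
      HodgeIdxLib.hh k (CohB1.tensorMod L (Coh.structureModule X)) 1 +
        HodgeIdxLib.hh k (CohB1.tensorMod L (ClSub.idealMod E)) 2 :=
    HodgeIdxLib.hh_right_le hS (CurvLib.isCoh_of_isInvertible (HilbPolyLib.isInvertible_tensor hL (IntMultLib.isInvertible_idealMod E hE)))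
      (CurvLib.isCoh_of_isInvertible (HilbPolyLib.isInvertible_tensor hL CurvLib.isInvertible_structureModule))
      (HilbPolyLib.isCoh_tensor hL hQ) 1
  rw [show HodgeIdxLib.hh k (CohB1.tensorMod L (ClSub.idealMod E)) 2 = 0 from Module.finrank_zero_of_subsingleton,
    HodgeIdxLib.hh_congr (k := k) (swapIso L (Coh.structureModule X) ≪≫ unitLeft L)] at h
  rw [CurvLib.euler_congr (k := k) (swapIso (ClSub.quotMod E) L),
    HodgeIdxLib.euler_eq_of_dim_one (k := k) (HilbPolyLib.isCoh_tensor hL hQ)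
      (by rw [HilbPolyLib.support_tensor hL]; exact hd)]
  change _ ≤ (HodgeIdxLib.hh k L 1 : ℤ)
  omega

end PlaneRRLib
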